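import Cfsg.Agent.Lib.Perm.AbelianSylow
import Mathlib

/-!
The automiser of an abelian Sylow subgroup of an alternating group.
-/

set_option autoImplicit false

namespace CfsgLib.AltSylowAut

open Equiv Equiv.Perm

/-- An element of the normaliser acting as an involution gives even index of the centraliser. -/
theorem two_dvd_index {G : Type*} [Group G] [Finite G] (P : Subgroup G) (r : G)
    (hN : r ∈ Subgroup.normalizer (P : Set G)) (hr : r * r ∈ Subgroup.centralizer (P : Set G))
    (hC : r ∉ Subgroup.centralizer (P : Set G)) :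
    2 ∣ ((Subgroup.centralizer (P : Set G)).subgroupOf (Subgroup.normalizer (P : Set G))).index := by
  set K := (Subgroup.centralizer (P : Set G)).subgroupOf (Subgroup.normalizer (P : Set G))
  haveI : K.Normal := by
    refine ⟨fun c hc n => ?_⟩
    rw [Subgroup.mem_subgroupOf, Subgroup.mem_centralizer_iff] at hc ⊢
    intro y hy
    have h1 := hc ((n : G)⁻¹ * y * n)
      (by simpa using (Subgroup.mem_normalizer_iff.mp (inv_mem n.2) y).mp hy)
    simp only [Subgroup.coe_mul, Subgroup.coe_inv]
    calc y * ((n : G) * c * (n : G)⁻¹) = n * (((n : G)⁻¹ * y * n) * c) * (n : G)⁻¹ := by simp [mul_assoc]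
      _ = _ := by rw [h1]; simp [mul_assoc]
  rw [Subgroup.index_eq_card]
  have h2 : orderOf (QuotientGroup.mk' K ⟨r, hN⟩) = 2 := by
    refine orderOf_eq_prime ?_ ?_
    · rw [← map_pow, QuotientGroup.mk'_apply, QuotientGroup.eq_one_iff]
      simpa [K, Subgroup.mem_subgroupOf, pow_two] using hr
    · intro h
      rw [QuotientGroup.mk'_apply, QuotientGroup.eq_one_iff] at h
      exact hC h
  rw [← h2]
  exact orderOf_dvd_natCard _

theorem odd_case {n p : ℕ} [Fact p.Prime] (hp : p ≠ 2) (hlt : n < p ^ 2)
    (P : Sylow p (alternatingGroup (Fin n))) :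
    2 ∣ ((Subgroup.centralizer ((P : Subgroup (alternatingGroup (Fin n))) :
        Set (alternatingGroup (Fin n)))).subgroupOf
      (Subgroup.normalizer ((P : Subgroup (alternatingGroup (Fin n))) :
        Set (alternatingGroup (Fin n))))).index ∨
      IsCyclic (P : Subgroup (alternatingGroup (Fin n))) := by
  classical
  have hpp : p.Prime := Fact.out
  haveI : NeZero p := ⟨hpp.ne_zero⟩
  set m := n / p with hm
  obtain ⟨ι⟩ : Nonempty (Fin m × ZMod p ↪ Fin n) :=
    Function.Embedding.nonempty_of_card_le (by simpa using Nat.div_mul_le_self n p)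
  let ρ : (Fin m → Multiplicative (ZMod p)) →* Perm (Fin m × ZMod p) :=
    { toFun := fun f => Equiv.prodShear (Equiv.refl _) fun i => Equiv.addRight (Multiplicative.toAdd (f i))
      map_one' := Equiv.ext fun x => by simp [Equiv.prodShear]
      map_mul' := fun f e => Equiv.ext fun x => Prod.ext rfl
        (by simp [Equiv.prodShear, add_assoc, add_comm (Multiplicative.toAdd (e x.1))]) }
  have hρ : Function.Injective ρ := fun f e h => funext fun i => by
    have := congrArg (fun q : Perm (Fin m × ZMod p) => (q (i, 0)).2) h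
    simpa [ρ, Equiv.prodShear] using this
  set φ := (viaEmbeddingHom ι).comp ρ with hφdef
  have hφ : Function.Injective φ := (viaEmbeddingHom_injective ι).comp hρ
  have hTcard : Nat.card φ.range = p ^ m := by
    rw [← Nat.card_congr (MonoidHom.ofInjective hφ).toEquiv, Nat.card_fun, Nat.card_fin,
      Nat.card_congr Multiplicative.toAdd, Nat.card_zmod]
  have hfac : n.factorial.factorization p = m := by
    rw [Nat.factorization_factorial hpp (b := 2) (Nat.log_lt_of_lt_pow' two_ne_zero hlt)]
    simp [← hm, show Finset.Ico 1 2 = {1} from rfl]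
  let T : Sylow p (Perm (Fin n)) := Sylow.ofCard φ.range
    (by rw [hTcard, Nat.card_perm, Nat.card_fin, hfac])
  obtain ⟨R, hR⟩ := (P.2.map (alternatingGroup (Fin n)).subtype).exists_le_sylow
  have hRA : (R : Subgroup (Perm (Fin n))) ≤ (alternatingGroup (Fin n)) := by
    intro x hx
    obtain ⟨k, hk⟩ := R.2 ⟨x, hx⟩
    exact mem_alternatingGroup.mpr
      (CfsgLib.AbelianSylowAlt.sign_eq_one_of_odd p hp (congrArg Subtype.val hk))
  have hReq : (P : Subgroup (alternatingGroup (Fin n))).map (alternatingGroup (Fin n)).subtype = (R : Subgroup (Perm (Fin n))) := by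
    refine le_antisymm hR ?_
    have h1 : (P : Subgroup (alternatingGroup (Fin n))) ≤ (R : Subgroup (Perm (Fin n))).comap (alternatingGroup (Fin n)).subtype :=
      Subgroup.map_le_iff_le_comap.mp hR
    have h2 : (R : Subgroup (Perm (Fin n))).comap (alternatingGroup (Fin n)).subtype = P :=
      P.3 (R.2.comap_of_injective _ (alternatingGroup (Fin n)).subtype_injective) h1
    intro x hx
    exact ⟨⟨x, hRA hx⟩, h2 ▸ (show (⟨x, hRA hx⟩ : (alternatingGroup (Fin n))) ∈ _ from hx), rfl⟩
  by_cases hm2 : m < 2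
  · right
    have hPc : Nat.card (P : Subgroup (alternatingGroup (Fin n))) = p ^ m := by
      rw [← Subgroup.card_map_of_injective (alternatingGroup (Fin n)).subtype_injective, hReq, ← hfac]
      show Nat.card R = _
      rw [R.card_eq_multiplicity, Nat.card_perm, Nat.card_fin]
    interval_cases m
    · haveI : Subsingleton (P : Subgroup (alternatingGroup (Fin n))) := by
        rw [← Finite.card_le_one_iff_subsingleton, hPc, pow_zero]
      exact isCyclic_of_subsingleton
    · exact isCyclic_of_prime_card (p := p) (by rw [hPc, pow_one])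
  left
  obtain ⟨g, hg⟩ := MulAction.exists_smul_eq (Perm (Fin n)) T R
  let i₀ : Fin m := ⟨0, by omega⟩
  let i₁ : Fin m := ⟨1, by omega⟩
  -- negation on one block
  let ε : Fin m → Perm (Fin m × ZMod p) := fun j =>
    Equiv.prodShear (Equiv.refl _) fun i => if i = j then Equiv.neg _ else Equiv.refl _
  have hconjε : ε i₁ = (Equiv.prodCongr (Equiv.swap i₀ i₁) (Equiv.refl _)) * ε i₀ *
      (Equiv.prodCongr (Equiv.swap i₀ i₁) (Equiv.refl (ZMod p)))⁻¹ := by
    rw [eq_mul_inv_iff_mul_eq]
    ext ⟨i, x⟩ <;> simp only [Perm.mul_apply, ε, Equiv.prodShear_apply, Equiv.prodCongr_apply,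
      Prod.map, Equiv.refl_apply, id]
    rcases eq_or_ne i i₀ with h | h
    · rw [h]; simp
    · have h' : Equiv.swap i₀ i₁ i ≠ i₁ := fun e => h (by
        rw [← Equiv.swap_apply_self i₀ i₁ i, e, Equiv.swap_apply_right])
      simp [h, h']
  set E := ε i₀ * ε i₁ with hE
  have hEsign : sign E = 1 := by
    rw [hE, hconjε, Perm.sign_mul, Perm.sign_mul, Perm.sign_mul, Perm.sign_inv, mul_comm (sign (Equiv.prodCongr _ _)),
      mul_assoc, Int.units_mul_self, mul_one, Int.units_mul_self]
  have hne : i₀ ≠ i₁ := by simp [i₀, i₁, Fin.ext_iff]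
  have hEapp : ∀ i x, E (i, x) = (i, if i = i₀ ∨ i = i₁ then -x else x) := by
    intro i x
    simp only [hE, Perm.mul_apply, ε, Equiv.prodShear_apply, Equiv.refl_apply]
    by_cases h0 : i = i₀
    · subst h0; simp [hne]
    · by_cases h1 : i = i₁ <;> simp [h0, h1, hne.symm]
  have hEE : E * E = 1 := by
    ext ⟨i, x⟩ <;> simp only [Perm.mul_apply, hEapp, Perm.one_apply]
    split_ifs <;> simp
  let twist : (Fin m → Multiplicative (ZMod p)) → (Fin m → Multiplicative (ZMod p)) := fun f i =>
    if i = i₀ ∨ i = i₁ then (f i)⁻¹ else f i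
  have hEρ : ∀ f, E * ρ f * E⁻¹ = ρ (twist f) := by
    intro f
    rw [mul_inv_eq_iff_eq_mul]
    ext ⟨i, x⟩ <;> simp only [Perm.mul_apply, hEapp, ρ, twist, MonoidHom.coe_mk, OneHom.coe_mk,
      Equiv.prodShear_apply, Equiv.refl_apply, Equiv.coe_addRight]
    by_cases h : i = i₀ ∨ i = i₁ <;> simp [h, add_comm]
  set r := viaEmbeddingHom ι E with hr
  have hrφ : ∀ f, r * φ f * r⁻¹ = φ (twist f) := fun f => by
    rw [hr, hφdef, MonoidHom.comp_apply, ← map_inv, ← map_mul, ← map_mul, hEρ]
    rfl
  have htw : ∀ f, twist (twist f) = f := fun f => by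
    funext i
    simp only [twist]
    split_ifs <;> simp
  set s := g * r * g⁻¹ with hs
  have hsA : s ∈ (alternatingGroup (Fin n)) := by
    rw [mem_alternatingGroup, hs, Perm.sign_mul, Perm.sign_mul, Perm.sign_inv, hr,
      CfsgLib.AbelianSylowAlt.sign_viaEmbedding, hEsign, mul_one, Int.units_mul_self]
  have hmemR : ∀ x, x ∈ (R : Subgroup (Perm (Fin n))) ↔ ∃ f, x = g * φ f * g⁻¹ := by
    intro x
    rw [← hg]
    constructor
    · rintro ⟨y, ⟨f, rfl⟩, rfl⟩
      exact ⟨f, rfl⟩
    · rintro ⟨f, rfl⟩
      exact ⟨φ f, ⟨f, rfl⟩, rfl⟩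
  have hmemP : ∀ x : (alternatingGroup (Fin n)), x ∈ (P : Subgroup (alternatingGroup (Fin n))) ↔ ∃ f, (x : Perm (Fin n)) = g * φ f * g⁻¹ := fun x => by
    rw [← hmemR, ← hReq]
    exact (Subgroup.mem_map_iff_mem (alternatingGroup (Fin n)).subtype_injective).symm
  have hsconj : ∀ f, s * (g * φ f * g⁻¹) * s⁻¹ = g * φ (twist f) * g⁻¹ := fun f => by
    rw [← hrφ f, hs]; group
  refine two_dvd_index _ (⟨s, hsA⟩ : (alternatingGroup (Fin n))) ?_ ?_ ?_
  · rw [Subgroup.mem_normalizer_iff]
    intro x
    rw [hmemP, hmemP]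
    constructor
    · rintro ⟨f, hf⟩
      exact ⟨twist f, by simp only [Subgroup.coe_mul, Subgroup.coe_inv]; rw [hf, hsconj]⟩
    · rintro ⟨f, hf⟩
      refine ⟨twist f, ?_⟩
      simp only [Subgroup.coe_mul, Subgroup.coe_inv] at hf
      have h := hsconj (twist f)
      rw [htw, ← hf] at h
      exact (mul_left_cancel (mul_right_cancel h)).symm
  · have : (⟨s, hsA⟩ : (alternatingGroup (Fin n))) * ⟨s, hsA⟩ = 1 := by
      refine Subtype.ext ?_
      show s * s = 1
      rw [hs, show g * r * g⁻¹ * (g * r * g⁻¹) = g * (r * r) * g⁻¹ by group, hr, ← map_mul, hEE,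
        map_one, mul_one, mul_inv_cancel]
    rw [this]
    exact one_mem _
  · intro hc
    rw [Subgroup.mem_centralizer_iff] at hc
    let δ : Fin m → Multiplicative (ZMod p) := Pi.mulSingle i₀ (Multiplicative.ofAdd 1)
    have hxA : g * φ δ * g⁻¹ ∈ (alternatingGroup (Fin n)) := hRA ((hmemR _).mpr ⟨δ, rfl⟩)
    have h := congrArg Subtype.val (hc ⟨_, hxA⟩ ((hmemP _).mpr ⟨δ, rfl⟩))
    simp only [Subgroup.coe_mul] at h
    have h' : g * φ (twist δ) * g⁻¹ = g * φ δ * g⁻¹ := by
      rw [← hsconj, ← h, mul_inv_cancel_right]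
    have h2 := congrFun (hφ (mul_left_cancel (mul_right_cancel h'))) i₀
    simp only [twist, δ, true_or, if_true, Pi.mulSingle_eq_same] at h2
    have h3 : (-1 : ZMod p) = 1 := congrArg Multiplicative.toAdd h2
    haveI : Fact (2 < p) := ⟨lt_of_le_of_ne hpp.two_le (Ne.symm hp)⟩
    exact ZMod.neg_one_ne_one h3

set_option maxRecDepth 8000 in
theorem five_sq : ∀ g : Perm (Fin 5), sign g = 1 → g ^ 4 = 1 → g ^ 2 = 1 := by decide +kernel

set_option maxRecDepth 8000 in
theorem five_counts : ∀ a b : Perm (Fin 5),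
    (sign a = 1 ∧ sign b = 1 ∧ a * a = 1 ∧ b * b = 1 ∧ a ≠ 1 ∧ b ≠ 1 ∧ a ≠ b ∧ a * b = b * a) →
    (Finset.univ.filter fun g : Perm (Fin 5) => sign g = 1 ∧
        (g * a = a * g ∨ g * a = b * g ∨ g * a = a * b * g) ∧
        (g * b = a * g ∨ g * b = b * g ∨ g * b = a * b * g)).card = 12 ∧
    (Finset.univ.filter fun g : Perm (Fin 5) => sign g = 1 ∧ g * a = a * g ∧ g * b = b * g).card = 4 := by
  decide +kernel

theorem five_case (P : Sylow 2 (alternatingGroup (Fin 5))) :
    ((Subgroup.centralizer ((P : Subgroup (alternatingGroup (Fin 5))) :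
        Set (alternatingGroup (Fin 5)))).subgroupOf
      (Subgroup.normalizer ((P : Subgroup (alternatingGroup (Fin 5))) :
        Set (alternatingGroup (Fin 5))))).index = 3 ∧
      IsKleinFour (P : Subgroup (alternatingGroup (Fin 5))) := by
  classical
  haveI : Fact (Nat.Prime 2) := ⟨Nat.prime_two⟩
  have hA : Nat.card (alternatingGroup (Fin 5)) = 60 := by
    rw [nat_card_alternatingGroup, Nat.card_fin]; rfl
  have hP : Nat.card (P : Subgroup (alternatingGroup (Fin 5))) = 4 := by
    rw [P.card_eq_multiplicity, hA]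
    rw [show (60 : ℕ) = 2 ^ 2 * 15 from rfl, Nat.factorization_mul (by norm_num) (by norm_num),
      Finsupp.add_apply, Nat.factorization_eq_zero_of_not_dvd (by norm_num : ¬ 2 ∣ 15),
      Nat.prime_two.factorization_pow, Finsupp.single_eq_same]
    rfl
  have hsq : ∀ x : (P : Subgroup (alternatingGroup (Fin 5))), x * x = 1 := fun x => by
    have h4 : x ^ 4 = 1 := hP ▸ pow_card_eq_one'
    have := five_sq ((x : alternatingGroup (Fin 5)) : Perm (Fin 5)) (x : alternatingGroup (Fin 5)).2
      (by simpa using congrArg (fun y : (P : Subgroup (alternatingGroup (Fin 5))) =>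
        ((y : alternatingGroup (Fin 5)) : Perm (Fin 5))) h4)
    exact Subtype.ext (Subtype.ext (by simpa [pow_two] using this))
  haveI hnt : Nontrivial ↥(P : Subgroup (alternatingGroup (Fin 5))) :=
    Finite.one_lt_card_iff_nontrivial.mp (by omega)
  haveI hK : IsKleinFour (P : Subgroup (alternatingGroup (Fin 5))) :=
    ⟨hP, Monoid.exponent_eq_prime_iff (hp := Nat.prime_two) |>.mpr fun x hx =>
      orderOf_eq_prime (by rw [pow_two]; exact hsq x) hx⟩
  refine ⟨?_, hK⟩
  obtain ⟨a, ha⟩ := @exists_ne _ hnt (1 : (P : Subgroup (alternatingGroup (Fin 5))))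
  obtain ⟨b, hb, hba⟩ : ∃ b : (P : Subgroup (alternatingGroup (Fin 5))), b ≠ 1 ∧ b ≠ a := by
    by_contra h
    push Not at h
    haveI := Fintype.ofFinite (P : Subgroup (alternatingGroup (Fin 5)))
    have h2 : (Finset.univ : Finset (P : Subgroup (alternatingGroup (Fin 5)))) ⊆ {1, a} := by
      intro x _
      rcases eq_or_ne x 1 with h' | h'
      · simp [h']
      · simp [h x h']
    have := Finset.card_le_card h2
    rw [Finset.card_univ, ← Nat.card_eq_fintype_card, hP] at this
    exact absurd (this.trans Finset.card_le_two) (by omega)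
  have hall : ∀ x : (P : Subgroup (alternatingGroup (Fin 5))), x = 1 ∨ x = a ∨ x = b ∨ x = a * b := by
    intro x
    by_contra h
    push Not at h
    haveI := Fintype.ofFinite (P : Subgroup (alternatingGroup (Fin 5)))
    have h5 : ({1, a, b, a * b, x} : Finset (P : Subgroup (alternatingGroup (Fin 5)))).card = 5 := by
      have hab1 : a * b ≠ 1 := fun e => hba (by
        rw [← inv_eq_of_mul_eq_one_right e, inv_eq_of_mul_eq_one_right (hsq a)])
      rw [Finset.card_insert_of_notMem, Finset.card_insert_of_notMem, Finset.card_insert_of_notMem,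
        Finset.card_insert_of_notMem, Finset.card_singleton] <;>
        simp [ha.symm, hb.symm, hab1.symm, hba.symm, h.1.symm, h.2.1.symm, h.2.2.1.symm, h.2.2.2.symm,
          hb, ha]
    have := Finset.card_le_univ ({1, a, b, a * b, x} : Finset (P : Subgroup (alternatingGroup (Fin 5))))
    rw [h5, ← Nat.card_eq_fintype_card, hP] at this
    omega
  let va : Perm (Fin 5) := ((a : alternatingGroup (Fin 5)) : Perm (Fin 5))
  let vb : Perm (Fin 5) := ((b : alternatingGroup (Fin 5)) : Perm (Fin 5))
  have inj : ∀ x y : (P : Subgroup (alternatingGroup (Fin 5))),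
      ((x : alternatingGroup (Fin 5)) : Perm (Fin 5)) = ((y : alternatingGroup (Fin 5)) : Perm (Fin 5)) →
      x = y := fun x y h => Subtype.ext (Subtype.ext h)
  have hcomm : a * b = b * a := (IsKleinFour.isMulCommutative.1.comm a b)
  obtain ⟨hN, hC⟩ := five_counts va vb
    ⟨(a : alternatingGroup (Fin 5)).2, (b : alternatingGroup (Fin 5)).2,
      congrArg (fun x : (P : Subgroup (alternatingGroup (Fin 5))) => ((x : alternatingGroup (Fin 5)) : Perm (Fin 5))) (hsq a),
      congrArg (fun x : (P : Subgroup (alternatingGroup (Fin 5))) => ((x : alternatingGroup (Fin 5)) : Perm (Fin 5))) (hsq b),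
      fun h => ha (inj a 1 h), fun h => hb (inj b 1 h), fun h => hba (inj b a h.symm),
      congrArg (fun x : (P : Subgroup (alternatingGroup (Fin 5))) => ((x : alternatingGroup (Fin 5)) : Perm (Fin 5))) hcomm⟩
  set Ps : Set (alternatingGroup (Fin 5)) :=
    ((P : Subgroup (alternatingGroup (Fin 5))) : Set (alternatingGroup (Fin 5)))
  have hcC : Nat.card (Subgroup.centralizer Ps) = 4 := by
    rw [← hC, ← Nat.card_eq_finsetCard]
    refine Nat.card_congr
      { toFun := fun g => ⟨((g : alternatingGroup (Fin 5)) : Perm (Fin 5)), ?_⟩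
        invFun := fun g => ⟨⟨g, (Finset.mem_filter.mp g.2).2.1⟩, ?_⟩
        left_inv := fun g => rfl
        right_inv := fun g => rfl }
    · rw [Finset.mem_filter]
      exact ⟨Finset.mem_univ _, (g : alternatingGroup (Fin 5)).2,
        congrArg Subtype.val (Subgroup.mem_centralizer_iff.mp g.2 _ a.2).symm,
        congrArg Subtype.val (Subgroup.mem_centralizer_iff.mp g.2 _ b.2).symm⟩
    · obtain ⟨-, -, h1, h2⟩ := Finset.mem_filter.mp g.2
      rw [Subgroup.mem_centralizer_iff]
      intro y hy
      refine Subtype.ext ?_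
      rcases hall ⟨y, hy⟩ with h | h | h | h <;>
        obtain rfl : y = _ := congrArg Subtype.val h
      · simp
      · exact h1.symm
      · exact h2.symm
      · show va * vb * (g : Perm (Fin 5)) = (g : Perm (Fin 5)) * (va * vb)
        rw [mul_assoc, ← h2, ← mul_assoc, ← h1, mul_assoc]
  have hcN : Nat.card (Subgroup.normalizer Ps) = 12 := by
    rw [← hN, ← Nat.card_eq_finsetCard]
    refine Nat.card_congr
      { toFun := fun g => ⟨((g : alternatingGroup (Fin 5)) : Perm (Fin 5)), ?_⟩
        invFun := fun g => ⟨⟨g, (Finset.mem_filter.mp g.2).2.1⟩, ?_⟩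
        left_inv := fun g => rfl
        right_inv := fun g => rfl }
    · rw [Finset.mem_filter]
      have key : ∀ x : (P : Subgroup (alternatingGroup (Fin 5))), x ≠ 1 →
          ((g : alternatingGroup (Fin 5)) : Perm (Fin 5)) * ((x : alternatingGroup (Fin 5)) : Perm (Fin 5)) =
            va * ((g : alternatingGroup (Fin 5)) : Perm (Fin 5)) ∨
          ((g : alternatingGroup (Fin 5)) : Perm (Fin 5)) * ((x : alternatingGroup (Fin 5)) : Perm (Fin 5)) =
            vb * ((g : alternatingGroup (Fin 5)) : Perm (Fin 5)) ∨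
          ((g : alternatingGroup (Fin 5)) : Perm (Fin 5)) * ((x : alternatingGroup (Fin 5)) : Perm (Fin 5)) =
            va * vb * ((g : alternatingGroup (Fin 5)) : Perm (Fin 5)) := by
        intro x hx
        have hmem := (Subgroup.mem_normalizer_iff.mp g.2 (x : alternatingGroup (Fin 5))).mp x.2
        have e : ((g : alternatingGroup (Fin 5)) : Perm (Fin 5)) * ((x : alternatingGroup (Fin 5)) : Perm (Fin 5)) =
            (((g : alternatingGroup (Fin 5)) * (x : alternatingGroup (Fin 5)) *
              (g : alternatingGroup (Fin 5))⁻¹ : alternatingGroup (Fin 5)) : Perm (Fin 5)) *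
              ((g : alternatingGroup (Fin 5)) : Perm (Fin 5)) := by simp
        rw [e]
        rcases hall ⟨_, hmem⟩ with h | h | h | h
        · refine absurd (Subtype.ext ?_) hx
          exact conj_eq_one_iff.mp (congrArg Subtype.val h)
        all_goals
          have h' := congrArg (fun y : (P : Subgroup (alternatingGroup (Fin 5))) =>
            ((y : alternatingGroup (Fin 5)) : Perm (Fin 5))) h
        · exact Or.inl (congrArg (· * _) h')
        · exact Or.inr (Or.inl (congrArg (· * _) h'))
        · exact Or.inr (Or.inr (congrArg (· * _) h'))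
      exact ⟨Finset.mem_univ _, (g : alternatingGroup (Fin 5)).2, key a ha, key b hb⟩
    · obtain ⟨-, hsg, h1, h2⟩ := Finset.mem_filter.mp g.2
      set gA : alternatingGroup (Fin 5) := ⟨g, hsg⟩
      refine Subgroup.mem_normalizer_fintype fun y hy => ?_
      have conjmem : ∀ x : (P : Subgroup (alternatingGroup (Fin 5))),
          ((g : Perm (Fin 5)) * ((x : alternatingGroup (Fin 5)) : Perm (Fin 5)) = va * g ∨
            (g : Perm (Fin 5)) * ((x : alternatingGroup (Fin 5)) : Perm (Fin 5)) = vb * g ∨
            (g : Perm (Fin 5)) * ((x : alternatingGroup (Fin 5)) : Perm (Fin 5)) = va * vb * g) →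
          gA * x * gA⁻¹ ∈ Ps := by
        intro x hx
        rcases hx with h | h | h
        · have : gA * x * gA⁻¹ = (a : alternatingGroup (Fin 5)) :=
            mul_inv_eq_iff_eq_mul.mpr (Subtype.ext h)
          rw [this]; exact a.2
        · have : gA * x * gA⁻¹ = (b : alternatingGroup (Fin 5)) :=
            mul_inv_eq_iff_eq_mul.mpr (Subtype.ext h)
          rw [this]; exact b.2
        · have : gA * x * gA⁻¹ = ((a * b : (P : Subgroup (alternatingGroup (Fin 5)))) : alternatingGroup (Fin 5)) :=
            mul_inv_eq_iff_eq_mul.mpr (Subtype.ext h)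
          rw [this]; exact (a * b).2
      rcases hall ⟨y, hy⟩ with h | h | h | h <;>
        obtain rfl : y = _ := congrArg Subtype.val h
      · rw [show gA * ((1 : (P : Subgroup (alternatingGroup (Fin 5)))) : alternatingGroup (Fin 5)) * gA⁻¹ = 1 by simp]
        exact one_mem (P : Subgroup (alternatingGroup (Fin 5)))
      · exact conjmem a h1
      · exact conjmem b h2
      · have := (P : Subgroup (alternatingGroup (Fin 5))).mul_mem (conjmem a h1) (conjmem b h2)
        convert this using 1
        simp only [Subgroup.coe_mul, mul_assoc, inv_mul_cancel_left]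
        exact Iff.rfl
  have hle : Subgroup.centralizer Ps ≤ Subgroup.normalizer Ps := by
    intro c hc
    rw [Subgroup.mem_normalizer_iff]
    intro y
    rw [Subgroup.mem_centralizer_iff] at hc
    constructor
    · intro hy; rw [← hc y hy, mul_inv_cancel_right]; exact hy
    · intro hy
      have := hc _ hy
      rw [inv_mul_cancel_right] at this
      have e : c * y * c⁻¹ = y := mul_left_cancel this.symm |>.symm |>.symm
      rwa [e] at hy
  have hmul := ((Subgroup.centralizer Ps).subgroupOf (Subgroup.normalizer Ps)).card_mul_index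
  rw [Nat.card_congr (Subgroup.subgroupOfEquivOfLe hle).toEquiv, hcC, hcN] at hmul
  omega

end CfsgLib.AltSylowAut
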